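import Mathlib

/-!
Invariants of a decomposition group in a completion: approximation by invariants via Artin–Rees.
-/
set_option autoImplicit false
set_option linter.style.haveILetI false
set_option linter.unusedSectionVars false
universe u v w

namespace Groth.Agent.GalCpl
open IsLocalRing
open scoped Pointwise

variable (R : Type u) [CommRing R] [IsLocalRing R] [IsNoetherianRing R]
variable (T : Type v) [CommRing T] [Algebra R T] [Module.Finite R T]
variable (G : Type w) [Group G] [Finite G] [MulSemiringAction G T] [SMulCommClass G R T] [Algebra.IsInvariant R T G]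

theorem under_eq (M : Ideal T) [M.IsMaximal] : M.under R = maximalIdeal R :=
  eq_maximalIdeal (Ideal.isMaximal_comap_of_isIntegral_of_isMaximal M)

/-- The translates of a maximal ideal to a high power lie in a given power of the base ideal. -/
theorem exists_inter_le (M : Ideal T) [M.IsMaximal] :
    ∃ N : ℕ, ∀ j, (⨅ g : G, (g • M) ^ (N * j)) ≤ (maximalIdeal R).map (algebraMap R T) ^ j := by
  classical
  haveI := Fintype.ofFinite G
  haveI : IsNoetherianRing T := IsNoetherianRing.of_finite R T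
  set J := (maximalIdeal R).map (algebraMap R T)
  obtain ⟨N, hN⟩ := J.exists_radical_pow_le_of_fg (IsNoetherian.noetherian _)
  refine ⟨N, fun j => ?_⟩
  have hmax : ∀ g : G, (g • M).IsMaximal := fun g =>
    Ideal.map_isMaximal_of_equiv (MulSemiringAction.toRingEquiv G T g)
  let s : Finset (Ideal T) := Finset.univ.image fun g : G => g • M
  have hs : ∀ P ∈ s, P.IsMaximal := fun P hP => by
    obtain ⟨g, -, rfl⟩ := Finset.mem_image.1 hP
    exact hmax g
  have h1 : (⨅ g : G, (g • M) ^ (N * j)) ≤ ⨅ P ∈ s, P ^ (N * j) :=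
    le_iInf₂ fun P hP => by
      obtain ⟨g, -, rfl⟩ := Finset.mem_image.1 hP
      exact iInf_le (fun g : G => (g • M) ^ (N * j)) g
  rw [← Ideal.prod_eq_iInf_of_pairwise_isCoprime (fun P hP Q hQ hne => Ideal.isCoprime_iff_sup_eq.2
    (Ideal.pow_sup_pow_eq_top ((hs P hP).coprime_of_ne (hs Q hQ) hne))), Finset.prod_pow] at h1
  refine h1.trans ?_
  rw [pow_mul]
  refine Ideal.pow_right_mono ((Ideal.pow_right_mono ?_ N).trans hN) j
  rw [Ideal.radical_eq_sInf]
  refine le_sInf ?_
  rintro P ⟨hJP, hP⟩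
  haveI := hP
  haveI : P.IsMaximal := Ideal.isMaximal_of_isIntegral_of_isMaximal_comap (R := R) P (by
    rw [← (IsLocalRing.maximalIdeal.isMaximal R).eq_of_le (Ideal.IsPrime.comap _).ne_top
      (Ideal.map_le_iff_le_comap.1 hJP)]
    infer_instance)
  obtain ⟨g, rfl⟩ := Algebra.IsInvariant.exists_smul_of_under_eq R T G M P (by rw [under_eq R T M, under_eq R T P])
  exact Ideal.prod_le_inf.trans (Finset.inf_le (Finset.mem_image_of_mem _ (Finset.mem_univ g)))

/-- Almost invariant elements are close to invariant ones. -/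
theorem exists_near_invariant :
    ∃ c : ℕ, ∀ j, ∀ t : T, (∀ g : G, g • t - t ∈ (maximalIdeal R).map (algebraMap R T) ^ (j + c)) →
      ∃ r : R, t - algebraMap R T r ∈ (maximalIdeal R).map (algebraMap R T) ^ j := by
  classical
  haveI := Fintype.ofFinite G
  let Δ : T →ₗ[R] (G → T) := LinearMap.pi fun g =>
    (MulSemiringAction.toAlgHom R T g).toLinearMap - LinearMap.id
  obtain ⟨c, hc⟩ := Ideal.exists_pow_inf_eq_pow_smul (maximalIdeal R) (LinearMap.range Δ)
  refine ⟨c, fun j t ht => ?_⟩
  have hmem : Δ t ∈ maximalIdeal R ^ (j + c) • (⊤ : Submodule R (G → T)) ⊓ LinearMap.range Δ := by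
    refine ⟨?_, ⟨t, rfl⟩⟩
    rw [SetLike.mem_coe, show Δ t = ∑ g, Pi.single g (g • t - t) from
      (Finset.univ_sum_single (Δ t)).symm]
    refine Submodule.sum_mem _ fun g _ => ?_
    have h1 : g • t - t ∈ maximalIdeal R ^ (j + c) • (⊤ : Submodule R T) := by
      rw [Ideal.smul_top_eq_map, Ideal.map_pow]; exact ht g
    refine (?_ : (maximalIdeal R ^ (j + c) • (⊤ : Submodule R T)).map (LinearMap.single R (fun _ : G => T) g) ≤ _)
      (Submodule.mem_map_of_mem h1)
    rw [Submodule.map_smul'']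
    exact Submodule.smul_mono le_rfl le_top
  rw [hc (j + c) (by omega), Nat.add_sub_cancel] at hmem
  have h2 : Δ t ∈ (maximalIdeal R ^ j • (⊤ : Submodule R T)).map Δ := by
    rw [Submodule.map_smul'', Submodule.map_top]
    exact Submodule.smul_mono le_rfl inf_le_right hmem
  obtain ⟨y, hy, hye⟩ := h2
  obtain ⟨r, hr⟩ := Algebra.IsInvariant.isInvariant (A := R) (G := G) (t - y) fun g => by
    have := congrFun hye g
    simp only [Δ, LinearMap.pi_apply, LinearMap.sub_apply, LinearMap.id_apply, AlgHom.toLinearMap_apply,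
      MulSemiringAction.toAlgHom_apply] at this
    rw [smul_sub, sub_eq_sub_iff_sub_eq_sub]
    exact this.symm
  refine ⟨r, ?_⟩
  rw [hr, sub_sub_cancel]
  rw [SetLike.mem_coe, Ideal.smul_top_eq_map, Ideal.map_pow] at hy
  exact hy

theorem mem_smul_pow_iff (M : Ideal T) (g : G) (n : ℕ) (t : T) : g • t ∈ (g • M) ^ n ↔ t ∈ M ^ n := by
  rw [← smul_pow', Ideal.smul_mem_pointwise_smul_iff]

/-- The invariants of the decomposition group of `M` in a completion at `M` are approximated by `R`. -/
theorem exists_seq (hinj : Function.Injective (algebraMap R T)) (M : Ideal T) [M.IsMaximal]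
    {C : Type*} [CommRing C] (κ : T →+* C) (MC : Ideal C) (hκ : ∀ n t, κ t ∈ MC ^ n ↔ t ∈ M ^ n) (x : C)
    (hdense : ∀ n, ∃ t, x - κ t ∈ MC ^ n)
    (hfix : ∀ g : G, g • M = M → ∀ n t, x - κ t ∈ MC ^ n → x - κ (g • t) ∈ MC ^ n) :
    ∃ r : ℕ → R, (∀ i l, i ≤ l → r i - r l ∈ maximalIdeal R ^ i) ∧
      ∀ n, x - κ (algebraMap R T (r n)) ∈ MC ^ n := by
  classical
  haveI := Fintype.ofFinite G
  have hmax : ∀ g : G, (g • M).IsMaximal := fun g =>
    Ideal.map_isMaximal_of_equiv (MulSemiringAction.toRingEquiv G T g)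
  set J := (maximalIdeal R).map (algebraMap R T) with hJ
  have hJg : ∀ (g : G) (n : ℕ), J ^ n ≤ (g • M) ^ n := fun g n => Ideal.pow_right_mono (by
    haveI := hmax g
    rw [hJ, Ideal.map_le_iff_le_comap]
    exact le_of_eq (under_eq R T (g • M)).symm) n
  -- almost invariant approximations
  have happrox : ∀ n, ∃ u, x - κ u ∈ MC ^ n ∧ ∀ g g' : G, g • u - u ∈ (g' • M) ^ n := by
    intro n
    obtain ⟨t, ht⟩ := hdense n
    let s : Finset (Ideal T) := Finset.univ.image fun g : G => g • M
    have hMs : ∀ g : G, g • M ∈ s := fun g => Finset.mem_image_of_mem _ (Finset.mem_univ g)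
    have hsmax : ∀ P : s, (P : Ideal T).IsMaximal := fun P => by
      obtain ⟨g, -, hg⟩ := Finset.mem_image.1 P.2
      rw [← hg]; exact hmax g
    choose gP hgP using fun P : s => (Finset.mem_image.1 P.2)
    obtain ⟨t', ht'⟩ := Ideal.exists_forall_sub_mem_ideal (R := T) (I := fun P : s => (P : Ideal T) ^ n)
      (fun P Q hPQ => Ideal.isCoprime_iff_sup_eq.2 (Ideal.pow_sup_pow_eq_top
        ((hsmax P).coprime_of_ne (hsmax Q) fun h => hPQ (Subtype.ext h))))
      (fun P => if (P : Ideal T) = M then t else 0)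
    have ht'M : t' - t ∈ M ^ n := by
      have := ht' ⟨M, by simpa using hMs 1⟩
      simpa using this
    have ht'o : ∀ P ∈ s, P ≠ M → t' ∈ P ^ n := fun P hP hne => by
      have := ht' ⟨P, hP⟩
      simpa [hne] using this
    have ht'x : x - κ t' ∈ MC ^ n := by
      have h1 := sub_mem ht ((hκ n _).2 ht'M)
      rwa [map_sub, sub_sub, add_sub_cancel] at h1
    have hD : ∀ g : G, g • M = M → g • t' - t' ∈ M ^ n := fun g hg => by
      rw [← hκ, map_sub]
      have h1 := sub_mem ht'x (hfix g hg n t' ht'x)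
      rwa [sub_sub_sub_cancel_left] at h1
    let u := ∑ P : s, gP P • t'
    have key : ∀ g : G, u - g • t' ∈ (g • M) ^ n := by
      intro g
      show ∑ P : s, gP P • t' - g • t' ∈ _
      rw [← Finset.add_sum_erase Finset.univ _ (Finset.mem_univ (⟨g • M, hMs g⟩ : s)), add_sub_right_comm]
      refine add_mem ?_ (sum_mem fun P hP => ?_)
      · set a := gP ⟨g • M, hMs g⟩
        have ha : a • M = g • M := (hgP ⟨g • M, hMs g⟩).2
        rw [show a • t' - g • t' = g • ((g⁻¹ * a) • t' - t') by rw [smul_sub, mul_smul, smul_inv_smul],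
          mem_smul_pow_iff T G]
        exact hD _ (by rw [mul_smul, ha, inv_smul_smul])
      · have hne : (gP P)⁻¹ • (g • M) ≠ M := fun h => (Finset.ne_of_mem_erase hP) (Subtype.ext (by
          rw [← (hgP P).2]
          conv_lhs => rw [← h]
          rw [smul_inv_smul]))
        rw [← smul_inv_smul (gP P) (g • M), mem_smul_pow_iff T G]
        exact ht'o _ (by rw [← mul_smul]; exact hMs _) hne
    refine ⟨u, ?_, fun g g' => ?_⟩
    · have h1 := key 1
      rw [one_smul, one_smul, ← hκ, map_sub] at h1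
      have := sub_mem ht'x h1
      rwa [sub_sub, add_sub_cancel] at this
    · have h1 := (mem_smul_pow_iff T G _ g n _).2 (key (g⁻¹ * g'))
      rw [← mul_smul, mul_inv_cancel_left, smul_sub, ← mul_smul, mul_inv_cancel_left] at h1
      simpa using sub_mem h1 (key g')
  obtain ⟨N, hN⟩ := exists_inter_le R T G M
  obtain ⟨c, hc⟩ := exists_near_invariant R T G
  obtain ⟨c', hc'⟩ := Ideal.exists_pow_inf_eq_pow_smul (maximalIdeal R) (LinearMap.range (Algebra.linearMap R T))
  let L : ℕ → ℕ := fun i => max i (N * (i + c'))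
  have hr : ∀ i, ∃ r : R, x - κ (algebraMap R T r) ∈ MC ^ L i := by
    intro i
    obtain ⟨u, hu, hinv⟩ := happrox (max (L i) (N * (L i + c)))
    obtain ⟨r, hr⟩ := hc (L i) u fun g => hN _ (Ideal.mem_iInf.2 fun g' =>
      Ideal.pow_le_pow_right (le_max_right _ _) (hinv g g'))
    refine ⟨r, ?_⟩
    have h1 : κ (u - algebraMap R T r) ∈ MC ^ L i := (hκ _ _).2 (by simpa using hJg 1 _ hr)
    have h2 := add_mem (Ideal.pow_le_pow_right (le_max_left _ _) hu) h1
    rwa [map_sub, sub_add_sub_cancel] at h2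
  choose r hr using hr
  refine ⟨r, fun i l hil => ?_, fun n => Ideal.pow_le_pow_right (le_max_left _ _) (hr n)⟩
  have hL : L i ≤ L l := max_le_max hil (Nat.mul_le_mul_left _ (by omega))
  have h1 : algebraMap R T (r l) - algebraMap R T (r i) ∈ M ^ L i := by
    rw [← hκ, map_sub]
    have := sub_mem (hr i) (Ideal.pow_le_pow_right hL (hr l))
    rwa [sub_sub_sub_cancel_left] at this
  have h2 : algebraMap R T (r i - r l) ∈ J ^ (i + c') := hN _ (Ideal.mem_iInf.2 fun g => by
    have h3 := (mem_smul_pow_iff T G M g _ _).2 (neg_mem (Ideal.pow_le_pow_right (le_max_right _ _) h1))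
    rw [neg_sub, ← map_sub, smul_algebraMap] at h3
    exact h3)
  have h4 : algebraMap R T (r i - r l) ∈ maximalIdeal R ^ (i + c') • (⊤ : Submodule R T) ⊓
      LinearMap.range (Algebra.linearMap R T) := by
    refine ⟨?_, ⟨_, rfl⟩⟩
    rw [SetLike.mem_coe, Ideal.smul_top_eq_map, Ideal.map_pow]
    exact h2
  rw [hc' (i + c') (by omega), Nat.add_sub_cancel] at h4
  have h5 : algebraMap R T (r i - r l) ∈ (maximalIdeal R ^ i • (⊤ : Submodule R R)).map (Algebra.linearMap R T) := by
    rw [Submodule.map_smul'', Submodule.map_top]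
    exact Submodule.smul_mono le_rfl inf_le_right h4
  obtain ⟨z, hz, hze⟩ := h5
  rw [← hinj hze]
  simpa using hz

end Groth.Agent.GalCpl
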